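import Cfsg.Agent.H740.OreM.ThreeBd
import Cfsg.Agent.H266.TC.SuzPair

/-!
# The situation `Rad`, `p = 3`, `A = Suz`: `|C_N(g)|` divides `3 ^ 6` (helper266)

* `card_M` : `|{n ∈ N | [n, g] ∈ ⟨x⟩}|` divides `3 ^ 7` for a `3`-element `g` outside `N`;
* `card_CN_six`, `card_three_six` : if `g` is conjugate under `N` to all `g x ^ j`;
-/

set_option autoImplicit false
set_option linter.unusedSectionVars false

namespace Cfsg.Agent.H266.TC.CNSix

open Subgroup Cfsg Cfsg.Agent.BpSpor.M5 Cfsg.Agent.H740.OreM.Dich Cfsg.Agent.H740.OreM.Lift Cfsg.Agent.H740.OreM.Bd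

universe u v

variable {D : Type u} [Group D] [Finite D] {z x : D} {N : Subgroup D} {A : Type v} [Group A]
    {f : ↥(centralizer ({z} : Set D)) →* A}

/-- `{n ∈ N | [n, g] ∈ ⟨x⟩}` -/
def MM (x : D) (N : Subgroup D) (g : D) : Subgroup D where
  carrier := {n | n ∈ N ∧ ∃ t : D, t ∈ zpowers x ∧ (∀ d, d * t = t * d) ∧ n * g * n⁻¹ = g * t}
  one_mem' := ⟨one_mem _, 1, one_mem _, fun d => by rw [mul_one, one_mul], by group⟩
  mul_mem' := by
    rintro a b ⟨ha, s, hs, hsc, has⟩ ⟨hb, t, ht, htc, hbt⟩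
    refine ⟨mul_mem ha hb, s * t, mul_mem hs ht, fun d => ?_, ?_⟩
    · rw [← mul_assoc, hsc, mul_assoc, htc, ← mul_assoc]
    · calc a * b * g * (a * b)⁻¹ = a * (b * g * b⁻¹) * a⁻¹ := by group
        _ = a * g * (t * a⁻¹) := by rw [hbt]; group
        _ = a * g * a⁻¹ * t := by rw [← htc]; group
        _ = _ := by rw [has, mul_assoc]
  inv_mem' := by
    rintro a ⟨ha, s, hs, hsc, has⟩
    refine ⟨inv_mem ha, s⁻¹, inv_mem hs, fun d => ?_, ?_⟩
    · exact ((show Commute d s from hsc d).inv_right).eq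
    · have h1 : a⁻¹ * (g * s) * a = g := by rw [← has]; group
      have h2 : a⁻¹ * g * a * s = g := by
        calc a⁻¹ * g * a * s = a⁻¹ * g * (a * s) := by group
          _ = a⁻¹ * (g * s) * a := by rw [hsc]; group
          _ = g := h1
      rw [inv_inv]
      exact eq_mul_inv_of_mul_eq h2

theorem mem_MM {g n : D} (h : Rad 3 z x N f) : n ∈ MM x N g ↔ n ∈ N ∧ ∃ i : ℤ, n * g * n⁻¹ = g * x ^ i := by
  constructor
  · rintro ⟨hn, t, ht, -, he⟩
    obtain ⟨i, rfl⟩ := mem_zpowers_iff.1 ht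
    exact ⟨hn, i, he⟩
  · rintro ⟨hn, i, he⟩
    exact ⟨hn, x ^ i, zpow_mem (mem_zpowers x) i, fun d => h.xzc i d, he⟩

theorem MM_le (g : D) : MM x N g ≤ N := fun _ h => h.1

theorem MM_pow (h : Rad 3 z x N f) (g : D) (k : ℕ) : MM x N g ≤ MM x N (g ^ k) := by
  intro n hn
  obtain ⟨h1, i, hi⟩ := (mem_MM h).1 hn
  refine (mem_MM h).2 ⟨h1, i * k, ?_⟩
  rw [← conj_pow, hi, (show Commute g (x ^ i) from h.xzc i g).mul_pow, zpow_mul, zpow_natCast]

/-- a section for a subgroup of `D / N` -/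
theorem exists_rho' [IsSimpleGroup A] (h : Rad 3 z x N f) (hns : ¬ Group.IsSolvable A) :
    ∃ ρ : D →* A, Function.Surjective ρ ∧ (∀ n ∈ N, ρ n = 1) ∧
      (∀ c : ↥(centralizer ({z} : Set D)), ρ c = f c) ∧ ∀ d, ρ d = 1 → d ∈ N ∨ ∃ n ∈ N, d = n * z := by
  have hp : Fact (Nat.Prime 3) := ⟨Nat.prime_three⟩
  have hN := h.nN
  obtain ⟨ρ, hρs, -, hρ⟩ := exists_rho h hN hns
  have hker : ∀ n ∈ N, ρ (QuotientGroup.mk' N n) = 1 := fun n hn => by
    rw [show QuotientGroup.mk' N n = 1 from (QuotientGroup.eq_one_iff _).2 hn, map_one]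
  refine ⟨ρ.comp (QuotientGroup.mk' N), hρs.comp (QuotientGroup.mk'_surjective N), hker, hρ, ?_⟩
  intro d hd
  obtain ⟨n, hn, c, hc, rfl⟩ := h.sup d
  have h1 : f ⟨c, mem_centralizer_singleton_iff.2 hc⟩ = 1 := by
    rw [← hρ]
    have h2 : ρ (QuotientGroup.mk' N (n * c)) = 1 := hd
    rw [map_mul, map_mul, hker n hn, one_mul] at h2
    exact h2
  obtain ⟨i, hi | hi⟩ := h.ker _ h1
  · left
    have hi' : c = x ^ i := hi
    rw [hi']
    exact N.mul_mem hn (N.zpow_mem h.xN i)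
  · right
    have hi' : c = x ^ i * z := hi
    exact ⟨n * x ^ i, N.mul_mem hn (N.zpow_mem h.xN i), by rw [hi', mul_assoc]⟩

theorem card_mul_rel {G : Type*} [Group G] {H K : Subgroup G} (h : H ≤ K) :
    Nat.card ↥H * H.relIndex K = Nat.card ↥K := by
  rw [← relIndex_bot_left H, ← relIndex_bot_left K]
  exact relIndex_mul_relIndex ⊥ H K bot_le h

/-- `z` is central modulo `N` -/
theorem z_central (h : Rad 3 z x N f) (hN : N.Normal) (d : D) :
    QuotientGroup.mk' N d * QuotientGroup.mk' N z = QuotientGroup.mk' N z * QuotientGroup.mk' N d := by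
  obtain ⟨n, hn, c, hc, rfl⟩ := h.sup d
  have h1 : QuotientGroup.mk' N n = 1 := (QuotientGroup.eq_one_iff _).2 hn
  rw [map_mul, h1, one_mul, ← map_mul, ← map_mul, hc]

/-- `z` lies in `⟨g, c g c⁻¹⟩ N` -/
theorem exists_z [IsSimpleGroup A] (h : Rad 3 z x N f) (hns : ¬ Group.IsSolvable A) (hA : Spor.IsoSuz A)
    {k : ↥(centralizer ({z} : Set D))} (hk : (k : D) * k = z) {g : D} (hgN : g ∉ N)
    (hg3 : g ^ 3 ∈ N) : ∃ c w : D, w ∈ closure {g, c * g * c⁻¹} ∧ ∃ n ∈ N, z = n * w := by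
  have hp : Fact (Nat.Prime 3) := ⟨Nat.prime_three⟩
  have hN := h.nN
  obtain ⟨ρ, hρs, hρN, hρ, hker⟩ := exists_rho' h hns
  have hzc := z_central h hN
  set π := QuotientGroup.mk' N with hπ
  have hπN : ∀ n ∈ N, π n = 1 := fun n hn => (QuotientGroup.eq_one_iff _).2 hn
  -- the image of `g`
  have hy1 : ρ g ≠ 1 := by
    intro h1
    rcases hker g h1 with h2 | ⟨n, hn, h2⟩
    · exact hgN h2
    · apply hgN
      have h3 : π g * π g = 1 := by
        rw [h2, map_mul, hπN n hn, one_mul, ← map_mul, h.zz, map_one]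
      have h4 : π g ^ 3 = 1 := by rw [← map_pow, hπN _ hg3]
      have h5 : π g = 1 := by
        calc π g = π g ^ 3 * (π g * π g)⁻¹ := by rw [pow_three]; group
          _ = 1 := by rw [h4, h3]; group
      exact (QuotientGroup.eq_one_iff _).1 h5
  have hy3 : ρ g ^ 3 = 1 := by rw [← map_pow, hρN _ hg3]
  -- the image of `k`
  have hk2 : f k * f k = 1 := by
    rw [← map_mul]
    have h1 : k * k = ⟨z, mem_centralizer_singleton_iff.2 rfl⟩ := Subtype.ext hk
    rw [h1]
    refine h.f_central hns fun c => Subtype.ext ?_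
    exact mem_centralizer_singleton_iff.1 c.2
  have hk1 : f k ≠ 1 := by
    intro h1
    obtain ⟨i, hi⟩ := h.ker_sq h1
    rw [hk] at hi
    apply h.z1
    rw [hi]
    exact h.sq_one (by norm_num) (by rw [← hi, h.zz])
  obtain ⟨c', e', hce⟩ := SuzPair.pair_iso hA hy3 hy1 hk2 hk1
  obtain ⟨c, rfl⟩ := hρs c'
  obtain ⟨b, rfl⟩ := hρs e'
  have h1 : ρ (b * k * b⁻¹) ∈ (closure {g, c * g * c⁻¹}).map ρ := by
    rw [MonoidHom.map_closure, Set.image_pair]
    simp only [map_mul, map_inv, hρ]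
    exact hce
  obtain ⟨w, hw, hwe⟩ := h1
  refine ⟨c, w * w, mul_mem hw hw, ?_⟩
  set a := b * (k : D) * b⁻¹ with ha
  -- `π w = π a` or `π z π a`
  have h2 : π w * π w = π a * π a := by
    have h3 : ρ (w * a⁻¹) = 1 := by rw [map_mul, map_inv, hwe, mul_inv_cancel]
    rcases hker _ h3 with h4 | ⟨n, hn, h4⟩
    · have h5 : π w = π a := by
        have h6 := hπN _ h4
        rw [map_mul, map_inv, mul_inv_eq_one] at h6
        exact h6
      rw [h5]
    · have h5 : π w = π z * π a := by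
        have h6 : w = n * z * a := by rw [← h4]; group
        rw [h6, map_mul, map_mul, hπN n hn, one_mul]
      have hzz : π z * π z = 1 := by rw [← map_mul, h.zz, map_one]
      rw [h5]
      calc π z * π a * (π z * π a) = π z * (π a * π z) * π a := by group
        _ = (π z * π z) * (π a * π a) := by rw [hzc]; group
        _ = π a * π a := by rw [hzz, one_mul]
  have h3 : π a * π a = π z := by
    have h4 : a * a = b * z * b⁻¹ := by
      calc a * a = b * ((k : D) * k) * b⁻¹ := by rw [ha]; group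
        _ = b * z * b⁻¹ := by rw [hk]
    rw [← map_mul, h4, map_mul, map_mul, hzc, mul_assoc, ← map_mul, mul_inv_cancel, map_one, mul_one]
  refine ⟨z * (w * w)⁻¹, ?_, by group⟩
  apply (QuotientGroup.eq_one_iff _).1
  show π (z * (w * w)⁻¹) = 1
  rw [map_mul, map_inv, map_mul, h2, h3, mul_inv_cancel]

/-- **`|{n ∈ N | [n, g] ∈ ⟨x⟩}|`** -/
theorem card_M [IsSimpleGroup A] (h : Rad 3 z x N f) (hns : ¬ Group.IsSolvable A) (hA : Spor.IsoSuz A)
    {k : ↥(centralizer ({z} : Set D))} (hk : (k : D) * k = z) (hN : Nat.card ↥N = 3 ^ 13) :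
    ∀ (e : ℕ) (g : D), g ^ 3 ^ e = 1 → g ∉ N → Nat.card ↥(MM x N g) ∣ 3 ^ 7 := by
  have hp : Fact (Nat.Prime 3) := ⟨Nat.prime_three⟩
  have hNn := h.nN
  intro e
  induction e with
  | zero =>
    intro g hg hgN
    rw [pow_zero, pow_one] at hg
    exact absurd (by rw [hg]; exact one_mem N) hgN
  | succ e ih =>
    intro g hg hgN
    by_cases hg3 : g ^ 3 ∈ N
    swap
    · exact (card_dvd_of_le (MM_pow h g 3)).trans (ih (g ^ 3) (by rw [← pow_mul, ← pow_succ']; exact hg) hg3)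
    obtain ⟨c, w, hw, n, hn, hz⟩ := exists_z h hns hA hk hgN hg3
    -- the conjugate
    set B := (MM x N g).map (MulAut.conj c).toMonoidHom with hB
    have hBc : Nat.card ↥B = Nat.card ↥(MM x N g) := card_map_of_injective (MulAut.conj c).injective
    have hBN : B ≤ N := by
      rintro _ ⟨m, hm, rfl⟩
      exact hNn.conj_mem m hm.1 c
    have hBg : ∀ m ∈ B, ∃ i : ℤ, m * (c * g * c⁻¹) * m⁻¹ = (c * g * c⁻¹) * x ^ i := by
      rintro _ ⟨m, hm, rfl⟩
      obtain ⟨-, i, hi⟩ := (mem_MM h).1 hm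
      refine ⟨i, ?_⟩
      show c * m * c⁻¹ * (c * g * c⁻¹) * (c * m * c⁻¹)⁻¹ = _
      calc c * m * c⁻¹ * (c * g * c⁻¹) * (c * m * c⁻¹)⁻¹ = c * (m * g * m⁻¹) * c⁻¹ := by group
        _ = c * g * (x ^ i * c⁻¹) := by rw [hi]; group
        _ = _ := by rw [← h.xzc]; group
    -- the intersection
    have hint : MM x N g ⊓ B ≤ zpowers x := by
      intro m hm
      obtain ⟨hm1, hm2⟩ := mem_inf.1 hm
      have hmN : m ∈ N := hm1.1
      have hZ : (zpowers x).Normal := h.normalZ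
      set q := QuotientGroup.mk' (zpowers x) with hq
      have hqx : ∀ i : ℤ, q (x ^ i) = 1 := fun i => (QuotientGroup.eq_one_iff _).2 (zpow_mem (mem_zpowers x) i)
      have hq1 : ∀ {a : D}, (∃ i : ℤ, m * a * m⁻¹ = a * x ^ i) → a ∈ (centralizer ({q m} : Set _)).comap q := by
        rintro a ⟨i, hi⟩
        rw [mem_comap, mem_centralizer_singleton_iff]
        have h1 : q (m * a * m⁻¹) = q a := by rw [hi, map_mul, hqx, mul_one]
        rw [map_mul, map_mul, map_inv, mul_inv_eq_iff_eq_mul] at h1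
        exact h1.symm
      have hcl : closure {g, c * g * c⁻¹} ≤ (centralizer ({q m} : Set _)).comap q := by
        rw [closure_le]
        rintro a (rfl | rfl)
        · exact hq1 ((mem_MM h).1 hm1).2
        · exact hq1 (hBg m hm2)
      have hzm : z ∈ (centralizer ({q m} : Set _)).comap q := by
        rw [hz]
        exact mul_mem (hq1 (h.comm (by norm_num) hmN hn)) (hcl hw)
      rw [mem_comap, mem_centralizer_singleton_iff, ← map_mul, ← map_mul] at hzm
      have h2 : (z * m)⁻¹ * (m * z) ∈ zpowers x := QuotientGroup.eq.1 hzm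
      obtain ⟨i, hi⟩ := mem_zpowers_iff.1 h2
      have h3 : z * m * z⁻¹ = m * x ^ (-i) := by
        have h4 : m * z = z * m * x ^ i := by rw [hi]; group
        have h5 : m = z * m * z⁻¹ * x ^ i := by
          calc m = m * z * z⁻¹ := by group
            _ = z * m * (x ^ i * z⁻¹) := by rw [h4]; group
            _ = _ := by rw [← h.xzc]; group
        rw [zpow_neg]
        exact eq_mul_inv_of_mul_eq h5.symm
      rw [h.cent_of_mod (by norm_num) h.zz h3, mul_one, mul_inv_eq_iff_eq_mul] at h3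
      exact h.cN m hmN h3.symm
    -- orders
    have hx3 : Nat.card ↥(MM x N g ⊓ B) ≤ 3 := by
      have h1 := Nat.le_of_dvd (Nat.card_pos) (card_dvd_of_le hint)
      rwa [Nat.card_zpowers, h.ox] at h1
    have h1 : B.relIndex (MM x N g) ≤ B.relIndex N :=
      relIndex_le_of_le_right (MM_le g) (by
        unfold relIndex
        exact index_ne_zero_of_finite)
    have h2 : Nat.card ↥(MM x N g ⊓ B) * B.relIndex (MM x N g) = Nat.card ↥(MM x N g) := by
      rw [inf_comm, ← inf_relIndex_right B (MM x N g)]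
      exact card_mul_rel inf_le_right
    have h3 : Nat.card ↥B * B.relIndex N = Nat.card ↥N := card_mul_rel hBN
    obtain ⟨a, ha, hac⟩ := (Nat.dvd_prime_pow Nat.prime_three).1 (hN ▸ card_dvd_of_le (MM_le (x := x) (N := N) g))
    rw [hac] at h2 hBc ⊢
    rw [hBc, hN] at h3
    refine pow_dvd_pow 3 ?_
    have h4 : 3 ^ a * 3 ^ a ≤ 3 ^ 14 := by
      calc 3 ^ a * 3 ^ a = 3 ^ a * (Nat.card ↥(MM x N g ⊓ B) * B.relIndex (MM x N g)) := by rw [h2]
        _ ≤ 3 ^ a * (3 * B.relIndex N) := Nat.mul_le_mul_left _ (Nat.mul_le_mul hx3 h1)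
        _ = 3 * (3 ^ a * B.relIndex N) := by ring
        _ = 3 ^ 14 := by rw [h3]; norm_num
    rw [← pow_add] at h4
    have := (Nat.pow_le_pow_iff_right (by norm_num : 1 < 3)).1 h4
    omega

/-- **`|C_N(g)|`** -/
theorem card_CN_six [IsSimpleGroup A] (h : Rad 3 z x N f) (hns : ¬ Group.IsSolvable A) (hA : Spor.IsoSuz A)
    {k : ↥(centralizer ({z} : Set D))} (hk : (k : D) * k = z) (hN : Nat.card ↥N = 3 ^ 13) {g : D} {e : ℕ}
    (hg : g ^ 3 ^ e = 1) (hgN : g ∉ N) (hsec : ∀ j : ℤ, ∃ s ∈ N, s * g * s⁻¹ = g * x ^ j) :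
    Nat.card ↥(N ⊓ centralizer ({g} : Set D)) ∣ 3 ^ 6 := by
  have h1 := card_M h hns hA hk hN e g hg hgN
  have hle : N ⊓ centralizer ({g} : Set D) ≤ MM x N g := by
    intro n hn
    obtain ⟨h2, h3⟩ := mem_inf.1 hn
    refine (mem_MM h).2 ⟨h2, 0, ?_⟩
    rw [zpow_zero, mul_one, mem_centralizer_singleton_iff.1 h3, mul_inv_cancel_right]
  have hlt : Nat.card ↥(N ⊓ centralizer ({g} : Set D)) < Nat.card ↥(MM x N g) := by
    refine lt_of_le_of_ne (Nat.card_le_card_of_injective _ (inclusion_injective hle)) fun hne => ?_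
    have h3 : N ⊓ centralizer ({g} : Set D) = MM x N g := Subgroup.eq_of_le_of_card_ge hle hne.ge
    obtain ⟨s, hs, hsg⟩ := hsec 1
    have h4 : s ∈ MM x N g := (mem_MM h).2 ⟨hs, 1, hsg⟩
    rw [← h3] at h4
    have h5 := mem_centralizer_singleton_iff.1 (mem_inf.1 h4).2
    rw [h5, mul_inv_cancel_right, zpow_one] at hsg
    have h6 : x = 1 := mul_eq_left.1 hsg.symm
    have h7 := h.ox
    rw [h6, orderOf_one] at h7
    norm_num at h7
  obtain ⟨b, hb, hbc⟩ := (Nat.dvd_prime_pow Nat.prime_three).1 h1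
  have d1 := card_dvd_of_le hle
  rw [hbc] at d1 hlt
  obtain ⟨a, ha, hac⟩ := (Nat.dvd_prime_pow Nat.prime_three).1 d1
  rw [hac] at hlt ⊢
  have e1 := (Nat.pow_lt_pow_iff_right (by norm_num : 1 < 3)).1 hlt
  exact pow_dvd_pow 3 (by omega)

/-- **subgroups of `C_D(g)`** -/
theorem card_three_six [IsSimpleGroup A] (h : Rad 3 z x N f) (hns : ¬ Group.IsSolvable A) (hA : Spor.IsoSuz A)
    {k : ↥(centralizer ({z} : Set D))} (hk : (k : D) * k = z) (hN : Nat.card ↥N = 3 ^ 13) {g : D} {e : ℕ}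
    (hg : g ^ 3 ^ e = 1) (hgN : g ∉ N) (hsec : ∀ j : ℤ, ∃ s ∈ N, s * g * s⁻¹ = g * x ^ j) {T : Subgroup D}
    (hT : T ≤ centralizer ({g} : Set D)) : Nat.card ↥T ∣ 3 ^ 6 * (2 * Nat.card A) := by
  have hp : Fact (Nat.Prime 3) := ⟨Nat.prime_three⟩
  have hNn := h.nN
  have : Finite A := Finite.of_surjective f h.surj
  obtain ⟨ρ, hρs, hρk, hρ⟩ := exists_rho h hNn hns
  obtain ⟨B, hB, hcard⟩ := card_cent_dvd hNn g T hT
  have h1 := card_CN_six h hns hA hk hN hg hgN hsec
  have h9 : Nat.card (D ⧸ N) ∣ 2 * Nat.card A := by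
    rw [card_eq_card_quotient_mul_card_subgroup ρ.ker,
      Nat.card_congr (QuotientGroup.quotientKerEquivOfSurjective ρ hρs).toEquiv, mul_comm]
    exact Nat.mul_dvd_mul_right hρk _
  rw [hcard, mul_comm]
  exact Nat.mul_dvd_mul ((card_dvd_of_le (inf_le_inf_left N hT)).trans h1) ((card_subgroup_dvd_card B).trans h9)

end Cfsg.Agent.H266.TC.CNSix
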