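import Cfsg.Agent.H266.TC.CNSix

/-!
# The Monster: the 3-part of `|C(g)|`, `g` of order 3 commuting with no involution (helper266)

* `three_part_six` : `3 ^ 14 ∤ |C(g)|` or a conjugate of `g` lies in `O_3(C(x))`, `x` 3-central.
-/

set_option autoImplicit false
set_option maxRecDepth 100000

namespace Cfsg.Agent.H266.TC.MThree

open Cfsg Cfsg.Agent.MonsterX Cfsg.Agent.MonsterX.InstData Cfsg.Agent.MonsterX.MainPack Cfsg.Agent.MonsterU
open Cfsg.Agent.MonsterP Cfsg.Agent.MonsterN Cfsg.Agent.LThreeMB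
open Cfsg.Agent.MonsterX.MainBasic Cfsg.Agent.MonsterX.MainSimple Cfsg.Agent.MonsterX.Model
open Cfsg.Agent.MonsterU.Lam2 Cfsg.Agent.MonsterU.TwoCls
open Cfsg.Agent.BpSpor.MBigModel Cfsg.Agent.H199.NSmMon Cfsg.Agent.H31.TwoCyc.MPart
open Cfsg.Agent.H777.Ore Cfsg.Agent.BpSpor.M5 Cfsg.Agent.H740.OreM Cfsg.Agent.H740.OreM.Dich Cfsg.Agent.H740.OreM.Threes
open Cfsg.Agent.H740.OreM.ThreeBd
open Cfsg.Spor (Co1)
open Subgroup (centralizer zpowers mem_centralizer_singleton_iff)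

/-- **The elements of order 3 commuting with no involution: `3 ^ 14 ∤ |C(g)|`** (helper740's `three_part` with `card_three_six`) -/
theorem three_part_six {g : MG} (hg : orderOf g = 3) (ho : ∀ t : MG, orderOf t = 2 → t * g ≠ g * t) :
    ¬ 3 ^ 14 ∣ Nat.card ↥(centralizer ({g} : Set MG)) ∨
      ∃ (c : MG) (x : centralizer ({zz} : Set MG)) (N : Subgroup ↥(centralizer ({(x : MG)} : Set MG)))
        (n : ↥(centralizer ({(x : MG)} : Set MG))), orderOf x = 3 ∧ fr (pi x) = 1 ∧ SD x N ∧ n ∈ N ∧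
        c * g * c⁻¹ = n := by
  have := finite
  have hp : Fact (Nat.Prime 3) := ⟨Nat.prime_three⟩
  rw [or_iff_not_imp_left, not_not]
  intro h14
  -- a Sylow subgroup of `C(g)`
  obtain ⟨S⟩ : Nonempty (Sylow 3 ↥(centralizer ({g} : Set MG))) := inferInstance
  have hSc : 3 ^ 14 ∣ Nat.card ↥(S : Subgroup ↥(centralizer ({g} : Set MG))) := S.pow_dvd_card_of_pow_dvd_card h14
  have hgS : self g ∈ (S : Subgroup ↥(centralizer ({g} : Set MG))) := by
    have hn : (zpowers (self g)).Normal := Zx_normal g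
    have h1 : IsPGroup 3 ↥(zpowers (self g)) := IsPGroup.of_card (n := 1) (by
      rw [Nat.card_zpowers, self, Subgroup.orderOf_mk, hg, pow_one])
    have h2 : IsPGroup 3 ↥((S : Subgroup ↥(centralizer ({g} : Set MG))) ⊔ zpowers (self g)) :=
      S.isPGroup'.to_sup_of_normal_right h1
    have h3 := S.is_maximal' h2 le_sup_left
    exact h3.le (Subgroup.mem_sup_right (Subgroup.mem_zpowers _))
  set T : Subgroup MG := (S : Subgroup ↥(centralizer ({g} : Set MG))).map (centralizer ({g} : Set MG)).subtype with hT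
  have hTp : IsPGroup 3 ↥T := S.isPGroup'.map _
  have hTc : 3 ^ 14 ∣ Nat.card ↥T := by
    rw [hT, Subgroup.card_map_of_injective (Subgroup.subtype_injective _)]
    exact hSc
  have hTg : ∀ t ∈ T, t * g = g * t := fun t ht => mem_centralizer_singleton_iff.1 (Subgroup.map_subtype_le _ ht)
  have hgT : g ∈ T := ⟨self g, hgS, rfl⟩
  obtain ⟨x, hx, hfr, hf⟩ := exists_full3
  obtain ⟨c, hc⟩ := exists_conj_le hf hTp
  obtain ⟨N, hD⟩ := exists_SD hx hfr
  have := hD.simple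
  obtain ⟨q, hq⟩ := hD.sq
  by_cases hgN : (⟨c * g * c⁻¹, hc g hgT⟩ : ↥(centralizer ({(x : MG)} : Set MG))) ∈ N
  · exact ⟨c, x, N, _, hx, hfr, hD, hgN, rfl⟩
  exfalso
  set gD : ↥(centralizer ({(x : MG)} : Set MG)) := ⟨c * g * c⁻¹, hc g hgT⟩ with hgD
  have hg3 : gD ^ 3 ^ 1 = 1 := by
    apply Subtype.ext
    show (c * g * c⁻¹) ^ 3 ^ 1 = 1
    rw [pow_one, conj_pow, ← hg, pow_orderOf_eq_one, mul_one, mul_inv_cancel]
  have hsec : ∀ j : ℤ, ∃ s ∈ N, s * gD * s⁻¹ = gD * self (x : MG) ^ j := by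
    rcases dich hD.rad (by norm_num) hD.cen gD with ⟨m, -, hm⟩ | hcc
    · exfalso
      have h1 : (c * g * c⁻¹) * ((m : MG) * zz * (m : MG)⁻¹) = (m : MG) * zz * (m : MG)⁻¹ * (c * g * c⁻¹) :=
        congrArg Subtype.val hm
      have h2 : orderOf (c⁻¹ * m * zz * (c⁻¹ * m)⁻¹) = 2 := by
        have := MulEquiv.orderOf_eq (MulAut.conj (c⁻¹ * (m : MG))) (zz : MG)
        rw [MulAut.conj_apply] at this
        rw [this]
        exact orderOf_eq_prime (by rw [pow_two]; exact chart.large.z_sq) chart.large.z_ne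
      refine ho _ h2 ?_
      calc c⁻¹ * m * zz * (c⁻¹ * m)⁻¹ * g = c⁻¹ * ((m : MG) * zz * (m : MG)⁻¹ * (c * g * c⁻¹)) * c := by group
        _ = c⁻¹ * ((c * g * c⁻¹) * ((m : MG) * zz * (m : MG)⁻¹)) * c := by rw [h1]
        _ = _ := by group
    · exact hcc
  -- the image of `T`
  set T' : Subgroup ↥(centralizer ({(x : MG)} : Set MG)) :=
    (T.map (MulAut.conj c).toMonoidHom).subgroupOf (centralizer ({(x : MG)} : Set MG)) with hT'
  have hTle : T.map (MulAut.conj c).toMonoidHom ≤ centralizer ({(x : MG)} : Set MG) := by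
    rintro _ ⟨t, ht, rfl⟩
    exact hc t ht
  have hT'c : Nat.card ↥T' = Nat.card ↥T := by
    rw [hT', Nat.card_congr (Subgroup.subgroupOfEquivOfLe hTle).toEquiv]
    exact Subgroup.card_map_of_injective (MulAut.conj c).injective
  have hT'g : T' ≤ centralizer ({gD} : Set ↥(centralizer ({(x : MG)} : Set MG))) := by
    intro d hd
    obtain ⟨t, ht, htd⟩ := Subgroup.mem_subgroupOf.1 hd
    have htd' : c * t * c⁻¹ = (d : MG) := htd
    rw [mem_centralizer_singleton_iff]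
    apply Subtype.ext
    show (d : MG) * (c * g * c⁻¹) = c * g * c⁻¹ * (d : MG)
    rw [← htd']
    calc c * t * c⁻¹ * (c * g * c⁻¹) = c * (t * g) * c⁻¹ := by group
      _ = c * (g * t) * c⁻¹ := by rw [hTg t ht]
      _ = _ := by group
  have h1 := CNSix.card_three_six hD.rad hD.ns (CoOneFin.coOne.suz (pi x) (orderOf_pi chart hx) hfr) hq hD.cardN hg3 hgN hsec hT'g
  rw [hT'c, hD.cardA] at h1
  have h2 := hTc.trans h1
  norm_num at h2

end Cfsg.Agent.H266.TC.MThree
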