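import Cfsg.Agent.H266.TC.MThree
import Cfsg.Agent.H497.OreM.SevenThirteen

/-!
# The Monster: the elements of `O_3(C(x))` commute with involutions (helper266)

* `no_mem` : an element of `N = O_3(C(x))`, `x` 3-central, commutes with an involution;
* `three_thirteen` : `3 ^ 14 ∤ |C(g)|` for `g` of order 3 of the Monster commuting with no involution.
-/

set_option autoImplicit false
set_option maxRecDepth 100000

namespace Cfsg.Agent.H266.TC.MThree

open Cfsg Cfsg.Agent.MonsterX Cfsg.Agent.MonsterX.InstData Cfsg.Agent.MonsterX.MainPack Cfsg.Agent.MonsterU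
open Cfsg.Agent.MonsterP Cfsg.Agent.MonsterN Cfsg.Agent.LThreeMB
open Cfsg.Agent.MonsterX.MainBasic Cfsg.Agent.MonsterX.MainSimple Cfsg.Agent.MonsterX.Model
open Cfsg.Agent.MonsterU.Lam2 Cfsg.Agent.MonsterU.TwoCls
open Cfsg.Agent.BpSpor.MBigModel Cfsg.Agent.H199.NSmMon Cfsg.Agent.H31.TwoCyc.MPart
open Cfsg.Agent.H777.Ore Cfsg.Agent.BpSpor.M5 Cfsg.Agent.H740.OreM Cfsg.Agent.H740.OreM.Dich Cfsg.Agent.H740.OreM.Threes
open Cfsg.Agent.H740.OreM.ThreeBd
open Cfsg.Spor (Co1)
open Subgroup (centralizer zpowers mem_centralizer_singleton_iff)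

/-- the index of the centralizer of an element of a normal subgroup -/
theorem index_cent_le {G : Type*} [Group G] [Finite G] {M : Subgroup G} (hM : M.Normal) {a : G} (ha : a ∈ M) :
    (centralizer ({a} : Set G)).index ≤ Nat.card ↥M := by
  have key : ∀ g h : G, g * a * g⁻¹ = h * a * h⁻¹ ↔ g⁻¹ * h ∈ centralizer ({a} : Set G) := by
    intro g h
    rw [mem_centralizer_singleton_iff]
    constructor
    · intro e
      calc g⁻¹ * h * a = g⁻¹ * (h * a * h⁻¹) * h := by group
        _ = g⁻¹ * (g * a * g⁻¹) * h := by rw [e]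
        _ = a * (g⁻¹ * h) := by group
    · intro e
      calc g * a * g⁻¹ = g * (a * (g⁻¹ * h)) * h⁻¹ := by group
        _ = g * (g⁻¹ * h * a) * h⁻¹ := by rw [e]
        _ = h * a * h⁻¹ := by group
  unfold Subgroup.index
  refine Nat.card_le_card_of_injective (Quotient.lift (fun g => (⟨g * a * g⁻¹, hM.conj_mem a ha g⟩ : ↥M))
    (fun g h e => Subtype.ext ((key g h).2 (QuotientGroup.leftRel_apply.1 e)))) ?_
  intro u v
  refine Quotient.inductionOn₂ u v fun g h e => ?_
  exact Quotient.sound (QuotientGroup.leftRel_apply.2 ((key g h).1 (congrArg Subtype.val e)))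

/-- commuting elements of orders `p`, `q` of a solvable group -/
theorem exists_pair {R : Type*} [Group R] [Finite R] (hR : Group.IsSolvable R) {p q : ℕ} (hp : p.Prime) (hq : q.Prime)
    (hpR : p ∣ Nat.card R) (hqR : q ∣ Nat.card R) (hp2 : ¬ p ^ 2 ∣ Nat.card R) (hq2 : ¬ q ^ 2 ∣ Nat.card R)
    (h1 : ¬ p ≡ 1 [MOD q]) (h3 : ¬ p ∣ q - 1) : ∃ t s : R, orderOf t = p ∧ orderOf s = q ∧ t * s = s * t := by
  have : Fact p.Prime := ⟨hp⟩
  have : Fact q.Prime := ⟨hq⟩
  obtain ⟨T, s, hs, hT, hTi, hTs⟩ := H497.OreM.exists_commuting hR (p := p) (q := q) (m := 1) hqR hp2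
    (fun i hi1 hi2 => by
      have : i = 1 := by omega
      subst this
      rwa [pow_one]) hq2 h3
  have h2 : p ∣ Nat.card ↥T := by
    rw [← T.card_mul_index] at hpR
    exact (hp.dvd_mul.1 hpR).resolve_right hTi
  obtain ⟨t, ht⟩ := exists_prime_orderOf_dvd_card' p h2
  exact ⟨t, s, by rw [Subgroup.orderOf_coe, ht], hs, hTs t t.2⟩

/-- the arithmetic of the odd subgroups of `3 ^ (1 + 12) : 2 Suz` -/
theorem card_small {c : ℕ} (hc : c ∣ 3 ^ 13 * (448345497600 * 2)) (h2 : ¬ 2 ∣ c) (ha : 11 ∣ c → ¬ 13 ∣ c)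
    (hb : 7 ∣ c → ¬ 13 ∣ c) (hd : 7 ∣ c → ¬ 11 ∣ c) : c < 1345036492800 := by
  have g : c ∣ 2 ^ 14 * (3 ^ 20 * (5 ^ 2 * (7 * (11 * 13)))) := hc.trans (by norm_num)
  have g1 : c ∣ 3 ^ 20 * (5 ^ 2 * (7 * (11 * 13))) := by
    refine Nat.Coprime.dvd_of_dvd_mul_left ?_ g
    exact (Nat.Coprime.pow_left 14 ((Nat.Prime.coprime_iff_not_dvd Nat.prime_two).2 h2)).symm
  by_cases h13 : 13 ∣ c
  · have h11 : ¬ 11 ∣ c := fun h => ha h h13
    have h7 : ¬ 7 ∣ c := fun h => hb h h13
    have g2 : c ∣ 7 * (11 * (3 ^ 20 * (5 ^ 2 * 13))) := g1.trans (by norm_num)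
    have g3 := Nat.Coprime.dvd_of_dvd_mul_left ((Nat.Prime.coprime_iff_not_dvd (by norm_num)).2 h7).symm g2
    have g4 := Nat.Coprime.dvd_of_dvd_mul_left ((Nat.Prime.coprime_iff_not_dvd (by norm_num)).2 h11).symm g3
    exact (Nat.le_of_dvd (by norm_num) g4).trans_lt (by norm_num)
  · have g2 : c ∣ 13 * (3 ^ 20 * (5 ^ 2 * (7 * 11))) := g1.trans (by norm_num)
    have g3 := Nat.Coprime.dvd_of_dvd_mul_left ((Nat.Prime.coprime_iff_not_dvd (by norm_num)).2 h13).symm g2
    by_cases h7 : 7 ∣ c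
    · have h11 := hd h7
      have g4 : c ∣ 11 * (3 ^ 20 * (5 ^ 2 * 7)) := g3.trans (by norm_num)
      have g5 := Nat.Coprime.dvd_of_dvd_mul_left ((Nat.Prime.coprime_iff_not_dvd (by norm_num)).2 h11).symm g4
      exact (Nat.le_of_dvd (by norm_num) g5).trans_lt (by norm_num)
    · have g4 : c ∣ 7 * (3 ^ 20 * (5 ^ 2 * 11)) := g3.trans (by norm_num)
      have g5 := Nat.Coprime.dvd_of_dvd_mul_left ((Nat.Prime.coprime_iff_not_dvd (by norm_num)).2 h7).symm g4
      exact (Nat.le_of_dvd (by norm_num) g5).trans_lt (by norm_num)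

/-- an element of order 11 of `C(x)` commutes with a conjugate of `z` -/
theorem ev_eleven {x : centralizer ({zz} : Set MG)} {N : Subgroup ↥(centralizer ({(x : MG)} : Set MG))} (hD : SD x N)
    {b : ↥(centralizer ({(x : MG)} : Set MG))} (hb : orderOf b = 11) : Ev (b : MG) := by
  have := finite
  have := hD.simple
  have h11 : Fact (Nat.Prime 11) := ⟨by norm_num⟩
  obtain ⟨m, hm, hcard⟩ := hD.rad.card_N_mul hD.ns
  rw [hD.cardA, hD.cardN] at hcard
  obtain ⟨c, hc⟩ := exists_conj_le (G := ↥(centralizer ({(x : MG)} : Set MG))) (p := 11) (x := zD x) (T := zpowers b)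
    (fun k hk => by
      have h1 := Subgroup.card_dvd_of_surjective (toXX pi x) hD.rad.surj
      rw [hD.cardA] at h1
      refine Dvd.dvd.trans ?_ h1
      have hk1 : k ≤ 1 := by
        by_contra hcon
        have h2 : 11 ^ 2 ∣ 3 ^ 13 * (448345497600 * 2) := (pow_dvd_pow 11 (by omega)).trans (hk.trans (by
          rw [hcard]
          exact Nat.mul_dvd_mul_left _ (Nat.mul_dvd_mul_left _ hm)))
        norm_num at h2
      exact (pow_dvd_pow 11 hk1).trans (by norm_num))
    (IsPGroup.of_card (n := 1) (by rw [Nat.card_zpowers, hb, pow_one]))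
  have h1 := mem_centralizer_singleton_iff.1 (hc b (Subgroup.mem_zpowers b))
  have h2 : (c : MG) * b * (c : MG)⁻¹ * zz = zz * ((c : MG) * b * (c : MG)⁻¹) := congrArg Subtype.val h1
  refine ⟨(c : MG)⁻¹, ?_⟩
  calc (c : MG)⁻¹ * zz * ((c : MG)⁻¹)⁻¹ * b = (c : MG)⁻¹ * (zz * ((c : MG) * b * (c : MG)⁻¹)) * c := by group
    _ = (c : MG)⁻¹ * ((c : MG) * b * (c : MG)⁻¹ * zz) * c := by rw [h2]
    _ = b * ((c : MG)⁻¹ * zz * ((c : MG)⁻¹)⁻¹) := by group

/-- **The elements of `N` commute with involutions.** -/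
theorem no_mem {x : centralizer ({zz} : Set MG)} {N : Subgroup ↥(centralizer ({(x : MG)} : Set MG))} (hD : SD x N)
    {n : ↥(centralizer ({(x : MG)} : Set MG))} (hn : n ∈ N) (ho : ∀ t : MG, orderOf t = 2 → t * n ≠ n * t) : False := by
  have := finite
  have := hD.simple
  have hp : Fact (Nat.Prime 3) := ⟨Nat.prime_three⟩
  have hNn := hD.rad.nN
  have hZ : (zpowers (self (x : MG))).Normal := hD.rad.normalZ
  set q := QuotientGroup.mk' (zpowers (self (x : MG))) with hq
  set S := (centralizer ({q n} : Set _)).comap q with hS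
  -- the index
  have hidx : S.index ≤ 3 ^ 12 := by
    rw [hS, Subgroup.index_comap_of_surjective _ (QuotientGroup.mk'_surjective _)]
    refine (index_cent_le (hNn.map q (QuotientGroup.mk'_surjective _)) (Subgroup.mem_map_of_mem q hn)).trans ?_
    have h1 : Nat.card ↥(N.map q) = (zpowers (self (x : MG))).relIndex N := by
      rw [← Subgroup.relIndex_ker N q, hq, QuotientGroup.ker_mk']
    have h2 := CNSix.card_mul_rel (H := zpowers (self (x : MG))) (K := N) (by
      rw [Subgroup.zpowers_le]; exact hD.rad.xN)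
    rw [Nat.card_zpowers, hD.rad.ox, hD.cardN, ← h1] at h2
    omega
  obtain ⟨m, hm, hcard⟩ := hD.rad.card_N_mul hD.ns
  rw [hD.cardA, hD.cardN] at hcard
  have hm0 : m ≠ 0 := fun h => by rw [h] at hm; norm_num at hm
  have hSD : Nat.card ↥S * S.index = 3 ^ 13 * (448345497600 * m) := by rw [S.card_mul_index, hcard]
  have hbig : 1345036492800 ≤ Nat.card ↥S := by
    by_contra hcon
    push Not at hcon
    have h1 : Nat.card ↥S * S.index ≤ 1345036492799 * 3 ^ 12 := Nat.mul_le_mul (by omega) hidx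
    rw [hSD] at h1
    have h2 : 3 ^ 13 * (448345497600 * 1) ≤ 3 ^ 13 * (448345497600 * m) :=
      Nat.mul_le_mul_left _ (Nat.mul_le_mul_left _ (by omega))
    have h3 := h2.trans h1
    norm_num at h3
  have hcS : Nat.card ↥S ∣ 3 ^ 13 * (448345497600 * 2) := by
    refine (Subgroup.card_subgroup_dvd_card S).trans ?_
    rw [hcard]
    exact Nat.mul_dvd_mul_left _ (Nat.mul_dvd_mul_left _ hm)
  -- odd
  have h2 : ¬ 2 ∣ Nat.card ↥S := by
    intro h2
    have : Fact (Nat.Prime 2) := ⟨Nat.prime_two⟩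
    obtain ⟨s, hs⟩ := exists_prime_orderOf_dvd_card' 2 h2
    have hs2 : orderOf (s : ↥(centralizer ({(x : MG)} : Set MG))) = 2 := by rw [Subgroup.orderOf_coe, hs]
    have hss : (s : ↥(centralizer ({(x : MG)} : Set MG))) * s = 1 := by
      rw [← pow_two, ← hs2, pow_orderOf_eq_one]
    have h3 : q (s : ↥(centralizer ({(x : MG)} : Set MG))) ∈ centralizer ({q n} : Set _) := s.2
    rw [mem_centralizer_singleton_iff, ← map_mul, ← map_mul] at h3
    have h4 : (n * (s : ↥(centralizer ({(x : MG)} : Set MG))))⁻¹ * (s * n) ∈ zpowers (self (x : MG)) :=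
      QuotientGroup.eq.1 h3.symm
    obtain ⟨i, hi⟩ := Subgroup.mem_zpowers_iff.1 h4
    have h5 : (s : ↥(centralizer ({(x : MG)} : Set MG))) * n * (s : ↥(centralizer ({(x : MG)} : Set MG)))⁻¹ =
        n * self (x : MG) ^ i := by
      calc (s : ↥(centralizer ({(x : MG)} : Set MG))) * n * (s : ↥(centralizer ({(x : MG)} : Set MG)))⁻¹
          = n * s * ((n * s)⁻¹ * (s * n)) * (s : ↥(centralizer ({(x : MG)} : Set MG)))⁻¹ := by group
        _ = n * (s * self (x : MG) ^ i) * (s : ↥(centralizer ({(x : MG)} : Set MG)))⁻¹ := by rw [← hi]; group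
        _ = n * (self (x : MG) ^ i * s) * (s : ↥(centralizer ({(x : MG)} : Set MG)))⁻¹ := by rw [hD.rad.xzc]
        _ = _ := by group
    rw [hD.rad.cent_of_mod (by norm_num) hss h5, mul_one, mul_inv_eq_iff_eq_mul] at h5
    refine ho ((s : ↥(centralizer ({(x : MG)} : Set MG))) : MG) ?_ (congrArg Subtype.val h5)
    rw [Subgroup.orderOf_coe, hs2]
  have hsol : Group.IsSolvable ↥S := S0205.result (by rwa [← Nat.not_even_iff_odd, even_iff_two_dvd])
  -- `b` of order 11 commutes with no element of order 7, 13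
  have h11 : ∀ b c : ↥S, orderOf b = 11 → (orderOf c = 7 ∨ orderOf c = 13) → b * c ≠ c * b := by
    intro b c hb hc hbc
    have hb' : orderOf (b : ↥(centralizer ({(x : MG)} : Set MG))) = 11 := by rw [Subgroup.orderOf_coe, hb]
    have h3 := H199.AbMon.eleven (by rw [Subgroup.orderOf_coe, hb']) (ev_eleven hD hb')
    have h4 : orderOf ((c : ↥(centralizer ({(x : MG)} : Set MG))) : MG) ∣ Nat.card
        ↥(centralizer ({((b : ↥(centralizer ({(x : MG)} : Set MG))) : MG)} : Set MG)) :=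
      Subgroup.orderOf_dvd_natCard _ (mem_centralizer_singleton_iff.2
        (congrArg (fun t : ↥S => ((t : ↥(centralizer ({(x : MG)} : Set MG))) : MG)) hbc.symm))
    rw [h3, Subgroup.orderOf_coe, Subgroup.orderOf_coe] at h4
    rcases hc with hc | hc
    · rw [hc] at h4; norm_num at h4
    · rw [hc] at h4; norm_num at h4
  have hn2 : ∀ r : ℕ, ¬ r ^ 2 ∣ 3 ^ 13 * (448345497600 * 2) → ¬ r ^ 2 ∣ Nat.card ↥S := fun r h h' => h (h'.trans hcS)
  have hfin := card_small hcS h2 (fun h h' => by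
    obtain ⟨t, s, ht, hs, hts⟩ := exists_pair hsol (p := 11) (q := 13) (by norm_num) (by norm_num) h h'
      (hn2 _ (by norm_num)) (hn2 _ (by norm_num)) (by decide) (by norm_num)
    exact h11 t s ht (Or.inr hs) hts) (fun h h' => by
    obtain ⟨t, s, ht, hs, hts⟩ := exists_pair hsol (p := 7) (q := 13) (by norm_num) (by norm_num) h h'
      (hn2 _ (by norm_num)) (hn2 _ (by norm_num)) (by decide) (by norm_num)
    have h3 : orderOf ((s : ↥(centralizer ({(x : MG)} : Set MG))) : MG) = 13 := by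
      rw [Subgroup.orderOf_coe, Subgroup.orderOf_coe, hs]
    refine H497.OreM.no_seven h3 ?_
    rw [← ht, ← Subgroup.orderOf_coe, ← Subgroup.orderOf_coe]
    exact Subgroup.orderOf_dvd_natCard _ (mem_centralizer_singleton_iff.2
      (congrArg (fun t : ↥S => ((t : ↥(centralizer ({(x : MG)} : Set MG))) : MG)) hts))) (fun h h' => by
    obtain ⟨t, s, ht, hs, hts⟩ := exists_pair hsol (p := 7) (q := 11) (by norm_num) (by norm_num) h h'
      (hn2 _ (by norm_num)) (hn2 _ (by norm_num)) (by decide) (by norm_num)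
    exact h11 s t hs (Or.inl ht) hts.symm)
  omega

/-- **The elements of order 3 commuting with no involution: `3 ^ 14 ∤ |C(g)|`.** -/
theorem three_thirteen {g : MG} (hg : orderOf g = 3) (ho : ∀ t : MG, orderOf t = 2 → t * g ≠ g * t) :
    ¬ 3 ^ 14 ∣ Nat.card ↥(centralizer ({g} : Set MG)) := by
  rcases three_part_six hg ho with h | ⟨c, x, N, n, hx, hfr, hD, hn, hc⟩
  · exact h
  · exfalso
    refine no_mem hD hn fun t ht h => ho (c⁻¹ * t * c) ?_ ?_
    · rw [← ht]
      have := MulEquiv.orderOf_eq (MulAut.conj c⁻¹) t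
      rwa [MulAut.conj_apply, inv_inv] at this
    · rw [← hc] at h
      calc c⁻¹ * t * c * g = c⁻¹ * (t * (c * g * c⁻¹)) * c := by group
        _ = c⁻¹ * (c * g * c⁻¹ * t) * c := by rw [h]
        _ = _ := by group

end Cfsg.Agent.H266.TC.MThree
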